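import Mathlib
import Cfsg.Agent.Lib.FpfLinear.Perfect
import Cfsg.Agent.Lib.PGroups.UniqueInvolution
import Cfsg.Agent.Lib.OddLocal.CoprimeFix
import Cfsg.Agent.Lib.Cores.Basic

/-!
# Automorphism groups of the cores of fixed-point-free linear groups

A group with a cyclic subgroup of index at most two has solvable automorphism group; so has every
`O_p` of a fixed-point-free linear group, and a coprime group of automorphisms of a solvable such
group is solvable as soon as the kernel on the cores is.
-/

set_option autoImplicit false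

namespace Cfsg.Agent.Lib.TIHall

open Subgroup

theorem isSolvable_mulAut_of_isCyclic {P : Type*} [Group P] [IsCyclic P] :
    Group.IsSolvable (MulAut P) :=
  Group.isSolvable_of_isSolvable_injective (f := (IsCyclic.mulAutMulEquiv P).toMonoidHom)
    (IsCyclic.mulAutMulEquiv P).injective

/-- The action of automorphisms on the subgroups of index two. -/
def indexTwoAct (P : Type*) [Group P] : MulAut P →* Equiv.Perm {K : Subgroup P // K.index = 2} where
  toFun f :=
    { toFun := fun K => ⟨K.1.map f.toMonoidHom, (index_map_equiv K.1 f).trans K.2⟩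
      invFun := fun K => ⟨K.1.map f.symm.toMonoidHom, (index_map_equiv K.1 f.symm).trans K.2⟩
      left_inv := fun K => Subtype.ext (by
        show (K.1.map f.toMonoidHom).map f.symm.toMonoidHom = K.1
        rw [map_map]; convert map_id K.1; ext x; simp)
      right_inv := fun K => Subtype.ext (by
        show (K.1.map f.symm.toMonoidHom).map f.toMonoidHom = K.1
        rw [map_map]; convert map_id K.1; ext x; simp) }
  map_one' := Equiv.ext fun K => Subtype.ext (by
    show K.1.map (1 : MulAut P).toMonoidHom = K.1
    exact map_id K.1)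
  map_mul' f g := Equiv.ext fun K => Subtype.ext (by
    show K.1.map (f * g).toMonoidHom = (K.1.map g.toMonoidHom).map f.toMonoidHom
    rw [map_map]; rfl)

theorem isSolvable_mulAut_of_index_two {P : Type*} [Group P] [Finite P] {a : P}
    (ha : (zpowers a).index = 2) : Group.IsSolvable (MulAut P) := by
  obtain ⟨b, hb⟩ : ∃ b, b ∉ zpowers a := by
    by_contra hcon
    push Not at hcon
    rw [(eq_top_iff' _).2 hcon, index_top] at ha
    omega
  have hcoset : ∀ x : P, x ∉ zpowers a → b⁻¹ * x ∈ zpowers a := fun x hx => by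
    rw [mul_mem_iff_of_index_two ha, inv_mem_iff]
    tauto
  -- at most three subgroups of index two
  have hgen : ∀ K K' : Subgroup P, K.index = 2 → K'.index = 2 →
      (a ∈ K ↔ a ∈ K') → (b ∈ K ↔ b ∈ K') → K = K' := by
    intro K K' hK hK' h1 h2
    haveI := Subgroup.normal_of_index_eq_two hK
    haveI := Subgroup.normal_of_index_eq_two hK'
    have hz : ∀ i : ℤ, a ^ i ∈ K ↔ a ^ i ∈ K' := fun i => by
      induction i using Int.induction_on with
      | zero => simp
      | succ i ih => rw [zpow_add, zpow_one, mul_mem_iff_of_index_two hK,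
          mul_mem_iff_of_index_two hK', ih, h1]
      | pred i ih => rw [zpow_sub, zpow_one, mul_mem_iff_of_index_two hK,
          mul_mem_iff_of_index_two hK', ih, inv_mem_iff, inv_mem_iff, h1]
    ext x
    by_cases hx : x ∈ zpowers a
    · obtain ⟨i, rfl⟩ := mem_zpowers_iff.1 hx
      exact hz i
    · obtain ⟨i, hi⟩ := mem_zpowers_iff.1 (hcoset x hx)
      rw [← mul_inv_cancel_left b x, ← hi, mul_mem_iff_of_index_two hK, mul_mem_iff_of_index_two hK',
        hz i, h2]
  have hcard : Nat.card {K : Subgroup P // K.index = 2} ≤ 4 := by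
    classical
    refine (Nat.card_le_card_of_injective
      (fun K : {K : Subgroup P // K.index = 2} => (decide (a ∈ K.1), decide (b ∈ K.1)))
      fun K K' h => ?_).trans (by simp [Nat.card_prod])
    simp only [Prod.mk.injEq, decide_eq_decide] at h
    exact Subtype.ext (hgen _ _ K.2 K'.2 h.1 h.2)
  haveI : Group.IsSolvable (Equiv.Perm {K : Subgroup P // K.index = 2}) :=
    FpfLinear.Perfect.solvable_perm_le_four hcard
  set L := (indexTwoAct P).ker with hL
  have hfix : ∀ f : L, (zpowers a).map (f : MulAut P).toMonoidHom = zpowers a := fun f =>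
    congrArg Subtype.val (Equiv.ext_iff.1 (MonoidHom.mem_ker.1 f.2) ⟨zpowers a, ha⟩)
  let res : L →* MulAut (zpowers a) :=
    { toFun := fun f => ((f : MulAut P).subgroupMap (zpowers a)).trans
        (MulEquiv.subgroupCongr (hfix f))
      map_one' := by ext x; rfl
      map_mul' := fun f g => by ext x; rfl }
  haveI : Group.IsSolvable (MulAut (zpowers a)) := isSolvable_mulAut_of_isCyclic
  haveI : Group.IsSolvable res.ker := by
    refine Group.isSolvable_of_comm fun f g => ?_
    have hA : ∀ (f : res.ker) (x : P), x ∈ zpowers a → (f.1 : MulAut P) x = x := fun f x hx =>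
      congrArg Subtype.val (MulEquiv.ext_iff.1 (MonoidHom.mem_ker.1 f.2) ⟨x, hx⟩)
    have hc : ∀ f : res.ker, (f.1 : MulAut P) b * b⁻¹ ∈ zpowers a := fun f => by
      rw [mul_mem_iff_of_index_two ha, inv_mem_iff]
      refine iff_of_false (fun h => hb ?_) hb
      have h' := hA f _ h
      rwa [(f.1 : MulAut P).injective h'] at h
    apply Subtype.ext
    apply Subtype.ext
    refine MulEquiv.ext fun x => ?_
    show (f.1 : MulAut P) ((g.1 : MulAut P) x) = (g.1 : MulAut P) ((f.1 : MulAut P) x)
    by_cases hx : x ∈ zpowers a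
    · rw [hA g x hx, hA f x hx, hA g x hx]
    · obtain ⟨i, hi⟩ := mem_zpowers_iff.1 (hcoset x hx)
      have hbb : (f.1 : MulAut P) ((g.1 : MulAut P) b) = (g.1 : MulAut P) ((f.1 : MulAut P) b) := by
        obtain ⟨c, hc'⟩ : ∃ c, c = (f.1 : MulAut P) b * b⁻¹ := ⟨_, rfl⟩
        obtain ⟨d, hd'⟩ : ∃ d, d = (g.1 : MulAut P) b * b⁻¹ := ⟨_, rfl⟩
        have h1 : (f.1 : MulAut P) b = c * b := by rw [hc', inv_mul_cancel_right]
        have h2 : (g.1 : MulAut P) b = d * b := by rw [hd', inv_mul_cancel_right]
        rw [h1, h2, map_mul, map_mul, hA f d (hd' ▸ hc g), hA g c (hc' ▸ hc f), h1, h2,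
          ← mul_assoc, ← mul_assoc]
        obtain ⟨j, hj⟩ := mem_zpowers_iff.1 (hc' ▸ hc f)
        obtain ⟨k, hk⟩ := mem_zpowers_iff.1 (hd' ▸ hc g)
        rw [← hj, ← hk, ← zpow_add, ← zpow_add, add_comm]
      rw [← mul_inv_cancel_left b x, ← hi, map_mul, map_mul, map_mul, map_mul,
        hA g _ (zpow_mem (mem_zpowers a) i), hA f _ (zpow_mem (mem_zpowers a) i), hbb,
        hA g _ (zpow_mem (mem_zpowers a) i)]
  haveI : Group.IsSolvable L :=
    Group.isSolvable_of_ker_le_range res.ker.subtype res (by simp)
  exact Group.isSolvable_of_ker_le_range L.subtype (indexTwoAct P) (by simp [hL])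

variable {F : Type*} [Field F] [IsAlgClosed F] {V : Type*} [AddCommGroup V] [Module F V]
  [FiniteDimensional F V] [Nontrivial V] {G : Type*} [Group G] [Finite G]
  {ρ : G →* Module.End F V}

/-- The automorphism group of a `p`-subgroup of a fixed-point-free linear group is solvable. -/
theorem isSolvable_mulAut_pSubgroup (hρ : FpfLinear.Basic.IsLinFPF ρ) {p : ℕ} [hp : Fact p.Prime]
    (P : Subgroup G) (hP : IsPGroup p P) : Group.IsSolvable (MulAut P) := by
  have hu : ∀ x y : P, orderOf x = p → orderOf y = p → y ∈ zpowers x := by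
    intro x y hx hy
    have : Nontrivial P := ⟨⟨x, 1, fun h => hp.out.ne_one (by rw [← hx, h, orderOf_one])⟩⟩
    have := hP.center_nontrivial
    obtain ⟨z, hz⟩ := exists_prime_orderOf_dvd_card' p (G := center P)
      (((hP.to_subgroup (center P)).card_eq_or_dvd).resolve_left Finite.one_lt_card.ne')
    have hzG : orderOf ((z : P) : G) = p := by rw [Subgroup.orderOf_coe, Subgroup.orderOf_coe, hz]
    have hmem : ∀ c : P, orderOf c = p → c ∈ zpowers (z : P) := fun c hc => by
      obtain ⟨i, hi⟩ := mem_zpowers_iff.1 (FpfLinear.Perfect.unique_prime hρ hzG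
        (by rw [Subgroup.orderOf_coe, hc]) (congrArg Subtype.val (mem_center_iff.mp z.2 c).symm))
      exact mem_zpowers_iff.2 ⟨i, Subtype.ext (by simpa using hi)⟩
    have heq : zpowers x = zpowers (z : P) := eq_of_le_of_card_ge (zpowers_le.mpr (hmem x hx))
      (by rw [Nat.card_zpowers, Nat.card_zpowers, hx, Subgroup.orderOf_coe, hz])
    exact heq ▸ hmem y hy
  rcases PGroups.isCyclic_or_quaternion hP hu with hc | ⟨-, n, -, ⟨e⟩⟩
  · exact isSolvable_mulAut_of_isCyclic
  · haveI : NeZero (2 ^ n : ℕ) := ⟨pow_ne_zero n two_ne_zero⟩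
    haveI : Group.IsSolvable (MulAut (QuaternionGroup (2 ^ n))) := by
      refine isSolvable_mulAut_of_index_two (a := QuaternionGroup.a 1) ?_
      have h1 := card_mul_index (zpowers (QuaternionGroup.a (1 : ZMod (2 * 2 ^ n))))
      rw [Nat.card_zpowers, QuaternionGroup.orderOf_a_one, Nat.card_eq_fintype_card,
        QuaternionGroup.card] at h1
      have h2 : 0 < 2 * 2 ^ n := by positivity
      exact Nat.eq_of_mul_eq_mul_left h2 (h1.trans (by ring))
    exact Group.isSolvable_of_isSolvable_injective (f := (MulAut.congr e).toMonoidHom) (MulAut.congr e).injective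

/-- Restriction of automorphisms to `O_p`. -/
def restrictCore (p : ℕ) (H : Type*) [Group H] : MulAut H →* MulAut (Cfsg.pCore p H) where
  toFun f := (f.subgroupMap (Cfsg.pCore p H)).trans
    (MulEquiv.subgroupCongr (Cores.map_pCore_equiv f))
  map_one' := by ext x; rfl
  map_mul' f g := by ext x; rfl

/-- A coprime group acting on a solvable fixed-point-free linear group is solvable if its kernel is. -/
theorem isSolvable_of_coprime_action (hρ : FpfLinear.Basic.IsLinFPF ρ) [Group.IsSolvable G]
    {K : Type*} [Group K] [Finite K] (α : K →* MulAut G) (hcop : (Nat.card K).Coprime (Nat.card G))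
    (hker : Group.IsSolvable α.ker) : Group.IsSolvable K := by
  let S : Finset ℕ := (Nat.card G).primeFactors
  -- the kernel on all cores is the kernel
  have hle : ∀ k : K, (∀ p ∈ S, restrictCore p G (α k) = 1) → k ∈ α.ker := by
    intro k hk
    have hF : ∀ f ∈ Cfsg.fittingSubgroup G, α k f = f := by
      intro f hf
      rw [Cores.fittingSubgroup_eq_iSup_pCore] at hf
      have hle : (⨆ p : Nat.Primes, Cfsg.pCore (p : ℕ) G) ≤
          MonoidHom.eqLocus (α k).toMonoidHom (MonoidHom.id G) := by
        refine iSup_le fun p x hx => ?_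
        show α k x = x
        by_cases hpd : (p : ℕ) ∈ S
        · exact congrArg Subtype.val (MulEquiv.ext_iff.1 (hk p hpd) ⟨x, hx⟩)
        · haveI : Fact (p : ℕ).Prime := ⟨p.2⟩
          obtain ⟨j, hj⟩ := IsPGroup.iff_card.1 (Cores.pCore_isPGroup (G := G) (p : ℕ))
          rcases j with _ | j
          · rw [pow_zero, Subgroup.card_eq_one] at hj
            rw [hj, mem_bot] at hx
            rw [hx, map_one]
          · exact absurd (Nat.mem_primeFactors.2 ⟨p.2, (dvd_pow_self _ j.succ_ne_zero).trans
              (hj ▸ card_subgroup_dvd_card _), Nat.card_pos.ne'⟩) hpd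
      exact hle hf
    rw [MonoidHom.mem_ker]
    refine MulEquiv.ext fun h => ?_
    show α k h = h
    haveI : (Cfsg.fittingSubgroup G).Normal := Subgroup.sSup_normal _ fun _ hN => hN.1
    have hu : α k h * h⁻¹ ∈ Cfsg.fittingSubgroup G := by
      have hcent : h⁻¹ * α k h ∈ centralizer (Cfsg.fittingSubgroup G : Set G) := by
        refine mem_centralizer_iff.2 fun f hf => ?_
        have h1 := hF _ ((inferInstance : (Cfsg.fittingSubgroup G).Normal).conj_mem f hf h)
        rw [map_mul, map_mul, map_inv, hF f hf] at h1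
        calc f * (h⁻¹ * α k h) = h⁻¹ * (h * f * h⁻¹) * α k h := by group
          _ = h⁻¹ * (α k h * f * (α k h)⁻¹) * α k h := by rw [h1]
          _ = h⁻¹ * α k h * f := by group
      have h2 := Cores.centralizer_fittingSubgroup_le hcent
      have h3 := (inferInstance : (Cfsg.fittingSubgroup G).Normal).conj_mem _ h2 h
      rwa [show h * (h⁻¹ * α k h) * h⁻¹ = α k h * h⁻¹ by group] at h3
    have hfix := hF _ hu
    set u := α k h * h⁻¹ with hu'
    have hiter : ∀ m : ℕ, α (k ^ m) h = u ^ m * h := by
      intro m
      induction m with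
      | zero => simp
      | succ m ih =>
        rw [pow_succ, map_mul, MulAut.mul_apply, show α k h = u * h by
          rw [hu', inv_mul_cancel_right], map_mul, ih, ← mul_assoc, pow_succ']
        congr 1
        have : ∀ j : ℕ, α (k ^ j) u = u := by
          intro j
          induction j with
          | zero => simp
          | succ j ihj => rw [pow_succ, map_mul α, MulAut.mul_apply, hfix, ihj]
        rw [this]
    have h4 := hiter (orderOf k)
    rw [pow_orderOf_eq_one, map_one, MulAut.one_apply, right_eq_mul] at h4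
    have h5 : orderOf u = 1 := Nat.eq_one_of_dvd_coprimes hcop
      ((orderOf_dvd_of_pow_eq_one h4).trans (orderOf_dvd_natCard k)) (orderOf_dvd_natCard u)
    rw [orderOf_eq_one_iff, hu', mul_inv_eq_one] at h5
    exact h5
  -- bounded derived length on each core
  have hex : ∀ p : ℕ, ∃ n : ℕ, p ∈ S → derivedSeries (MulAut (Cfsg.pCore p G)) n = ⊥ := by
    intro p
    by_cases hp : p ∈ S
    · haveI : Fact p.Prime := ⟨Nat.prime_of_mem_primeFactors hp⟩
      obtain ⟨n, hn⟩ := (Group.isSolvable_def _).1
        (isSolvable_mulAut_pSubgroup hρ (Cfsg.pCore p G) (Cores.pCore_isPGroup p))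
      exact ⟨n, fun _ => hn⟩
    · exact ⟨0, fun h => absurd h hp⟩
  choose n hn using hex
  set N := S.sup n with hN
  have hsub : derivedSeries K N ≤ α.ker := by
    intro k hk
    refine hle k fun p hp => ?_
    have h1 : derivedSeries K N ≤ derivedSeries K (n p) :=
      derivedSeries_antitone K (Finset.le_sup hp)
    have h2 := map_derivedSeries_le_derivedSeries ((restrictCore p G).comp α) (n p)
      ⟨k, h1 hk, rfl⟩
    rwa [hn p hp, mem_bot] at h2
  haveI := hker
  haveI : Group.IsSolvable (derivedSeries K N) :=
    Group.isSolvable_of_isSolvable_injective (f := inclusion hsub) (inclusion_injective hsub)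
  obtain ⟨M, hM⟩ := (Group.isSolvable_def _).1 this
  refine (Group.isSolvable_def _).2 ⟨N + M, ?_⟩
  have h1 : ∀ j, derivedSeries K (N + j) ≤ (derivedSeries (derivedSeries K N) j).map
      (derivedSeries K N).subtype := by
    intro j
    induction j with
    | zero => simp [derivedSeries_zero, ← MonoidHom.range_eq_map]
    | succ j ih =>
      rw [← add_assoc, derivedSeries_succ, derivedSeries_succ, map_commutator]
      exact commutator_mono ih ih
  have h2 := h1 M
  rwa [hM, Subgroup.map_bot, le_bot_iff] at h2

end Cfsg.Agent.Lib.TIHall
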