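import Mathlib
import Cfsg.Agent.S4115
import Cfsg.Agent.Lib.TIHall.AutSolvable
import Cfsg.Agent.Lib.SylowNumbers.Basic
import Cfsg.Agent.Lib.FpfLinear.Linearize
import Cfsg.Agent.Lib.FpfLinear.NonSolvable

/-!
# `π`-separable groups with a TI subgroup that is Hall in its normalizer
-/

set_option autoImplicit false

namespace Cfsg.Agent.Lib.TIHall

open Subgroup
open scoped commutatorElement

variable {G : Type*} [Group G] [Finite G]

/-- The largest normal subgroup of order prime to `n`. -/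
theorem core_spec (n : ℕ) (O : Subgroup G)
    (hO : O = sSup {K : Subgroup G | K.Normal ∧ (Nat.card K).Coprime n}) :
    O.Normal ∧ (Nat.card O).Coprime n := by
  refine ⟨hO ▸ Subgroup.sSup_normal _ fun K hK => hK.1, hO ▸ Cores.sSup_normal_mem
    (P := fun K : Subgroup G => (Nat.card K).Coprime n) (by simp) fun A B _ hB hA hB' => ?_⟩
  haveI := hB
  exact Nat.Coprime.coprime_dvd_left (Cores.card_sup_dvd_mul A B) (hA.mul_left hB')

theorem sup_normalizer_eq_top (H : Subgroup G) (hTI : Cfsg.IsTISubset (H : Set G)) (hne : H ≠ ⊥)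
    (hH : (Nat.card H).Coprime H.index) (O : Subgroup G) [O.Normal]
    (hmax : ∀ K : Subgroup G, K.Normal → (Nat.card K).Coprime (Nat.card H) → K ≤ O)
    (hOcop : (Nat.card O).Coprime (Nat.card H))
    {n : ℕ} (M : Fin (n + 1) → Subgroup G) (h0 : M 0 = ⊥) (htop : M (Fin.last n) = ⊤)
    (hmono : Monotone M) (hMn : ∀ i, (M i).Normal)
    (hfac : ∀ i : Fin n, (∀ q : ℕ, q.Prime → q ∣ (M i.castSucc).relIndex (M i.succ) → q ∣ Nat.card H) ∨
        ((M i.castSucc).relIndex (M i.succ)).Coprime (Nat.card H)) :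
    O ⊔ normalizer (H : Set G) = ⊤ := by
  obtain ⟨i, hi1, hi2⟩ : ∃ i : Fin n, M i.castSucc ≤ O ∧ ¬M i.succ ≤ O := by
    by_contra hcon
    push Not at hcon
    have : ∀ j : Fin (n + 1), M j ≤ O := by
      intro j
      induction j using Fin.induction with
      | zero => rw [h0]; exact bot_le
      | succ i ih => exact hcon i ih
    have hOtop : O = ⊤ := top_le_iff.1 (htop ▸ this (Fin.last n))
    refine hne (Subgroup.card_eq_one.1 (Nat.eq_one_of_dvd_coprimes hOcop ?_ dvd_rfl))
    rw [hOtop]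
    exact card_dvd_of_le le_top
  haveI := hMn i.succ
  set X := O ⊔ M i.succ with hX
  have hXn : X.Normal := inferInstance
  have hrel : O.relIndex X ∣ (M i.castSucc).relIndex (M i.succ) := by
    rw [hX, sup_comm O, relIndex_sup_right]
    exact relIndex_dvd_of_le_left _ hi1
  have hOX : O ≤ X := le_sup_left
  have hcardX : Nat.card X = Nat.card O * O.relIndex X := by
    rw [← relIndex_bot_left X, ← relIndex_bot_left O, relIndex_mul_relIndex _ _ _ bot_le hOX]
  have hπ : ∀ q : ℕ, q.Prime → q ∣ O.relIndex X → q ∣ Nat.card H := by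
    rcases hfac i with h | h
    · exact fun q hq hd => h q hq (hd.trans hrel)
    · exfalso
      refine hi2 (le_sup_right.trans (hmax X hXn ?_))
      rw [hcardX]
      exact hOcop.mul_left (h.coprime_dvd_left hrel)
  set Y := X ⊓ H with hY
  have hHX : H.relIndex X ∣ H.index := SylowNumbers.Basic.relIndex_dvd_index_of_normal_right H X
  have hYX : Nat.card Y * H.relIndex X = Nat.card X := by
    rw [hY, ← relIndex_bot_left X, ← relIndex_bot_left (X ⊓ H), ← inf_relIndex_right H X, inf_comm H X,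
      relIndex_mul_relIndex _ _ _ bot_le inf_le_left]
  have hcopHX : (H.relIndex X).Coprime (Nat.card H) := (hH.coprime_dvd_right hHX).symm
  have hcop2 : (H.relIndex X).Coprime (O.relIndex X) :=
    Nat.coprime_of_dvd fun q hq hd1 hd2 => hq.ne_one
      (Nat.eq_one_of_dvd_coprimes hcopHX hd1 (hπ q hq hd2))
  have hYO : (Nat.card Y).Coprime (Nat.card O) :=
    (hOcop.coprime_dvd_right (card_dvd_of_le inf_le_right)).symm
  have hcY : Nat.card Y = O.relIndex X := by
    refine Nat.dvd_antisymm (hYO.dvd_of_dvd_mul_left ?_) (hcop2.symm.dvd_of_dvd_mul_right ?_)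
    · rw [← hcardX, ← hYX]; exact dvd_mul_right _ _
    · rw [hYX, hcardX]; exact dvd_mul_left _ _
  have hXOY : X ≤ O ⊔ Y := by
    refine (eq_of_le_of_card_ge (sup_le hOX inf_le_left) (Nat.le_of_dvd Nat.card_pos ?_)).ge
    rw [hcardX, ← hcY]
    exact hYO.symm.mul_dvd_of_dvd_of_dvd (card_dvd_of_le le_sup_left) (card_dvd_of_le le_sup_right)
  obtain ⟨y₀, hy₀, hy₀1⟩ : ∃ y ∈ Y, y ≠ 1 := by
    by_contra hcon
    push Not at hcon
    have h1 : O.relIndex X = 1 := by rw [← hcY, (eq_bot_iff_forall _).2 hcon, card_bot]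
    exact hi2 (le_sup_right.trans (relIndex_eq_one.1 h1))
  -- `Y` is a TI Hall subgroup of `X`
  have hnorm : ∀ g : G, (∀ y ∈ Y, g * y * g⁻¹ ∈ Y) → g ∈ normalizer (H : Set G) := by
    intro g hg
    by_contra hgN
    exact hy₀1 (hTI g hgN y₀ hy₀.2 (hg y₀ hy₀).2)
  have hTI' : Cfsg.IsTISubset ((Y.subgroupOf X : Subgroup X) : Set X) := by
    intro g hg x hx hgx
    by_contra hx1
    refine hg ?_
    have hgN : (g : G) ∈ normalizer (H : Set G) := by
      by_contra hgN
      exact hx1 (Subtype.ext (hTI (g : G) hgN (x : G) (mem_subgroupOf.1 hx).2 (mem_subgroupOf.1 hgx).2))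
    rw [Subgroup.mem_normalizer_iff]
    intro h
    show (h : G) ∈ X ⊓ H ↔ ((g * h * g⁻¹ : X) : G) ∈ X ⊓ H
    simp only [mem_inf, Subgroup.coe_mul, Subgroup.coe_inv, h.2, true_and]
    rw [Subgroup.mem_normalizer_iff.1 hgN (h : G)]
    exact ⟨fun h' => ⟨mul_mem (mul_mem g.2 h.2) (inv_mem g.2), h'⟩, fun h' => h'.2⟩
  have hHall' : (Nat.card (Y.subgroupOf X)).Coprime (Y.subgroupOf X).index := by
    rw [Nat.card_congr (subgroupOfEquivOfLe (inf_le_left : Y ≤ X)).toEquiv,
      show (Y.subgroupOf X).index = H.relIndex X by rw [hY, inf_subgroupOf_left]; rfl]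
    exact hcY ▸ hcop2.symm
  refine eq_top_iff.2 fun g _ => ?_
  have hK : ((Y.map (MulAut.conj g).toMonoidHom).subgroupOf X).map X.subtype =
      Y.map (MulAut.conj g).toMonoidHom := by
    rw [subgroupOf_map_subtype, inf_eq_left]
    rintro _ ⟨y, hy, rfl⟩
    exact hXn.conj_mem y hy.1 g
  obtain ⟨x, hx⟩ := S4116.result (Y.subgroupOf X) hHall' hTI'
    ((Y.map (MulAut.conj g).toMonoidHom).subgroupOf X) fun q _ hd => by
      rwa [← card_map_of_injective (X.subtype_injective), hK,
        card_map_of_injective (MulAut.conj g).injective,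
        ← Nat.card_congr (subgroupOfEquivOfLe (inf_le_left : Y ≤ X)).toEquiv] at hd
  have hxg : (x : G)⁻¹ * g ∈ normalizer (H : Set G) := hnorm _ fun y hy => by
    have h1 : g * y * g⁻¹ ∈ X := hXn.conj_mem y hy.1 g
    obtain ⟨z, hz, hze⟩ := hx (show (⟨g * y * g⁻¹, h1⟩ : X) ∈
      (Y.map (MulAut.conj g).toMonoidHom).subgroupOf X from ⟨y, hy, rfl⟩)
    have hze' : (x : G) * z * (x : G)⁻¹ = g * y * g⁻¹ := congrArg Subtype.val hze
    have : (x : G)⁻¹ * g * y * ((x : G)⁻¹ * g)⁻¹ = z := by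
      rw [show (x : G)⁻¹ * g * y * ((x : G)⁻¹ * g)⁻¹ = (x : G)⁻¹ * (g * y * g⁻¹) * x by group, ← hze']
      group
    rw [this]
    exact hz
  have hxO : (x : G) ∈ O ⊔ normalizer (H : Set G) :=
    sup_le_sup_left (inf_le_right.trans le_normalizer) O (hXOY x.2)
  have := mul_mem hxO (mem_sup_right hxg)
  rwa [mul_inv_cancel_left] at this

/-- The TI subgroup is a Frobenius complement. -/
theorem hasLinFPF_of_ti (H : Subgroup G) (hTI : Cfsg.IsTISubset (H : Set G)) (hnn : ¬H.Normal)
    (hH : (Nat.card H).Coprime H.index) (O : Subgroup G) [O.Normal]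
    (hOcop : (Nat.card O).Coprime (Nat.card H)) (hON : O ⊔ normalizer (H : Set G) = ⊤) :
    FpfLinear.Linearize.HasLinFPF H := by
  set X := O ⊔ H with hX
  have hHX : H ≤ X := le_sup_right
  set H' := H.subgroupOf X with hH'
  have hTI' : Cfsg.IsTISubset ((H' : Subgroup X) : Set X) := by
    intro g hg x hx hgx
    by_contra hx1
    refine hg ?_
    have hgN : (g : G) ∈ normalizer (H : Set G) := by
      by_contra hgN
      exact hx1 (Subtype.ext (hTI (g : G) hgN (x : G) hx hgx))
    rw [Subgroup.mem_normalizer_iff]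
    intro h
    show (h : G) ∈ H ↔ ((g * h * g⁻¹ : X) : G) ∈ H
    simp only [Subgroup.coe_mul, Subgroup.coe_inv]
    exact Subgroup.mem_normalizer_iff.1 hgN (h : G)
  have hcard : Nat.card H' = Nat.card H := Nat.card_congr (subgroupOfEquivOfLe hHX).toEquiv
  have hH'c : (Nat.card H').Coprime H'.index := by
    rw [hcard]; exact hH.coprime_dvd_right (relIndex_dvd_index_of_le hHX)
  have hc : (O.subgroupOf X).IsComplement' H' := by
    refine isComplement'_of_disjoint_and_mul_eq_univ ?_ ?_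
    · rw [disjoint_iff, eq_bot_iff]
      rintro x ⟨h1, h2⟩
      have h3 : (x : G) = 1 := orderOf_eq_one_iff.1 (Nat.eq_one_of_dvd_coprimes hOcop
        (Subgroup.orderOf_dvd_natCard O h1) (Subgroup.orderOf_dvd_natCard H h2))
      exact Subtype.ext h3
    · refine Set.eq_univ_of_forall fun x => ?_
      obtain ⟨o, ho, h, hh, he⟩ := mem_sup_of_normal_left.1 x.2
      exact ⟨⟨o, mem_sup_left ho⟩, ho, ⟨h, mem_sup_right hh⟩, hh, Subtype.ext he⟩
  have hnn' : ¬H'.Normal := by
    intro hn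
    refine hnn (normalizer_eq_top_iff.1 (eq_top_iff.2 ?_))
    rw [← hON]
    refine sup_le ?_ le_rfl
    intro o ho
    rw [Subgroup.mem_normalizer_iff]
    intro h
    have key : ∀ o' ∈ O, ∀ h' ∈ H, o' * h' * o'⁻¹ ∈ H := fun o' ho' h' hh' =>
      hn.conj_mem ⟨h', hHX hh'⟩ hh' ⟨o', mem_sup_left ho'⟩
    refine ⟨key o ho h, fun h1 => ?_⟩
    have h2 := key o⁻¹ (inv_mem ho) _ h1
    rwa [show o⁻¹ * (o * h * o⁻¹) * o⁻¹⁻¹ = h by group] at h2
  obtain ⟨F, _, _, C, hC, ⟨e⟩⟩ := S4115.exists_frobenius H' hTI' hH'c hnn' (O.subgroupOf X) hc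
  exact FpfLinear.Linearize.of_complement
    (FrobComplement.Build.shrink hC ((subgroupOfEquivOfLe hHX).symm.trans e))

/-- Solvability of `G`. -/
theorem isSolvable_of_ti (H : Subgroup G) (hH : (Nat.card H).Coprime H.index) (O : Subgroup G)
    [O.Normal] (hmax : ∀ K : Subgroup G, K.Normal → (Nat.card K).Coprime (Nat.card H) → K ≤ O)
    (hOcop : (Nat.card O).Coprime (Nat.card H)) (hON : O ⊔ normalizer (H : Set G) = ⊤)
    (hlin : FpfLinear.Linearize.HasLinFPF H) [Group.IsSolvable O] [Group.IsSolvable H] :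
    Group.IsSolvable G := by
  obtain ⟨m, hm, ρ, hρ⟩ := hlin
  haveI : NeZero m := ⟨hm.ne'⟩
  set N := normalizer (H : Set G) with hN
  haveI : (H.subgroupOf N).Normal := normal_in_normalizer
  have hcN : Nat.card (H.subgroupOf N) = Nat.card H :=
    Nat.card_congr (subgroupOfEquivOfLe le_normalizer).toEquiv
  have hcop : (Nat.card (H.subgroupOf N)).Coprime (H.subgroupOf N).index := by
    rw [hcN]; exact hH.coprime_dvd_right (relIndex_dvd_index_of_le le_normalizer)
  obtain ⟨K, hK⟩ := exists_right_complement'_of_coprime hcop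
  have hKcard : (Nat.card K).Coprime (Nat.card H) := by
    rw [← hK.symm.index_eq_card, ← hcN]; exact hcop.symm
  let α : K →* MulAut H := (H.normalizerMonoidHom).comp K.subtype
  have hker : ∀ k : K, k ∈ α.ker → ((k : N) : G) ∈ O := by
    intro k hk
    -- the part of `K` centralizing `H` generates a normal subgroup with `O`
    set K₀ := (α.ker.map K.subtype).map N.subtype with hK₀
    have hmem : ∀ g ∈ K₀, ∀ h ∈ H, g * h * g⁻¹ = h := by
      rintro _ ⟨_, ⟨j, hj, rfl⟩, rfl⟩ h hh
      exact congrArg Subtype.val (MulEquiv.ext_iff.1 (MonoidHom.mem_ker.1 hj) ⟨h, hh⟩)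
    have hKn : ∀ g ∈ N, ∀ x ∈ K₀, g * x * g⁻¹ ∈ K₀ := by
      intro g hg x hx
      obtain ⟨⟨h, j⟩, hhj⟩ := hK.2 (⟨g, hg⟩ : N)
      have hg' : ((h : N) : G) * ((j : N) : G) = g := congrArg Subtype.val hhj
      have hh : ((h : N) : G) ∈ H := h.2
      have h1 : ((j : N) : G) * x * ((j : N) : G)⁻¹ ∈ K₀ := by
        obtain ⟨_, ⟨i, hi, rfl⟩, rfl⟩ := hx
        exact ⟨_, ⟨j * i * j⁻¹, (inferInstance : α.ker.Normal).conj_mem i hi j, rfl⟩, rfl⟩
      have h2 := hmem _ h1 _ hh
      have h3 : Commute ((h : N) : G) (((j : N) : G) * x * ((j : N) : G)⁻¹) :=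
        (mul_inv_eq_iff_eq_mul.1 h2).symm
      rw [← hg', show ((h : N) : G) * ((j : N) : G) * x * (((h : N) : G) * ((j : N) : G))⁻¹ =
        ((h : N) : G) * (((j : N) : G) * x * ((j : N) : G)⁻¹) * ((h : N) : G)⁻¹ by group, h3.eq,
        mul_inv_cancel_right]
      exact h1
    have hOK : (O ⊔ K₀).Normal := by
      rw [← normalizer_eq_top_iff, eq_top_iff, ← hON]
      refine sup_le (le_sup_left.trans le_normalizer) fun g hg => ?_
      have key : ∀ g ∈ N, ∀ x ∈ O ⊔ K₀, g * x * g⁻¹ ∈ O ⊔ K₀ := by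
        intro g hg x hx
        obtain ⟨o, ho, y, hy, rfl⟩ := mem_sup_of_normal_left.1 hx
        rw [show g * (o * y) * g⁻¹ = (g * o * g⁻¹) * (g * y * g⁻¹) by group]
        exact mul_mem (mem_sup_left ((inferInstance : O.Normal).conj_mem o ho g))
          (mem_sup_right (hKn g hg y hy))
      rw [Subgroup.mem_normalizer_iff]
      refine fun x => ⟨key g hg x, fun hx => ?_⟩
      have h2 := key g⁻¹ (N.inv_mem hg) _ hx
      rwa [show g⁻¹ * (g * x * g⁻¹) * g⁻¹⁻¹ = x by group] at h2
    refine hmax _ hOK ?_ (mem_sup_right ⟨_, ⟨k, hk, rfl⟩, rfl⟩)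
    rw [sup_comm]
    refine Nat.Coprime.coprime_dvd_left (Cores.card_sup_dvd_mul K₀ O) (Nat.Coprime.mul_left ?_ hOcop)
    rw [hK₀, card_map_of_injective N.subtype_injective, card_map_of_injective K.subtype_injective]
    exact hKcard.coprime_dvd_left (card_subgroup_dvd_card _)
  haveI : Group.IsSolvable α.ker :=
    Group.isSolvable_of_isSolvable_injective
      (f := ((N.subtype.comp (K.subtype.comp α.ker.subtype)).codRestrict O fun k => hker k.1 k.2))
      (fun a b hab => by
        have := congrArg Subtype.val hab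
        exact Subtype.ext (Subtype.ext (Subtype.ext this)))
  haveI : Group.IsSolvable K := isSolvable_of_coprime_action hρ α hKcard inferInstance
  haveI : Group.IsSolvable (H.subgroupOf N) :=
    Group.isSolvable_of_isSolvable_injective (f := (subgroupOfEquivOfLe le_normalizer).toMonoidHom)
      (MulEquiv.injective _)
  haveI : Group.IsSolvable N := by
    haveI : Group.IsSolvable (N ⧸ H.subgroupOf N) :=
      Group.isSolvable_of_surjective (f := (QuotientGroup.mk' _).comp K.subtype) fun z => by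
        obtain ⟨g, rfl⟩ := QuotientGroup.mk'_surjective _ z
        obtain ⟨⟨h, k⟩, hhk⟩ := hK.2 g
        refine ⟨k, ?_⟩
        show QuotientGroup.mk' _ (k : N) = QuotientGroup.mk' _ g
        rw [← hhk]
        simp only [map_mul]
        rw [show QuotientGroup.mk' (H.subgroupOf N) (h : N) = 1 from
          (QuotientGroup.eq_one_iff (h : N)).2 h.2, one_mul]
    exact Group.isSolvable_of_ker_le_range (H.subgroupOf N).subtype (QuotientGroup.mk' (H.subgroupOf N))
      (by rw [QuotientGroup.ker_mk', range_subtype])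
  haveI : Group.IsSolvable (G ⧸ O) :=
    Group.isSolvable_of_surjective (f := (QuotientGroup.mk' O).comp N.subtype) fun z => by
      obtain ⟨g, rfl⟩ := QuotientGroup.mk'_surjective O z
      obtain ⟨o, ho, n, hn, rfl⟩ := mem_sup_of_normal_left.1 (hON.symm ▸ mem_top g : g ∈ O ⊔ N)
      refine ⟨⟨n, hn⟩, ?_⟩
      show QuotientGroup.mk' O n = QuotientGroup.mk' O (o * n)
      rw [map_mul, show QuotientGroup.mk' O o = 1 from (QuotientGroup.eq_one_iff o).2 ho, one_mul]
  exact Group.isSolvable_of_ker_le_range O.subtype (QuotientGroup.mk' O) (by simp)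

end Cfsg.Agent.Lib.TIHall
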